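import Mathlib
import Cfsg.Agent.LX.CoP
import Cfsg.Agent.LX.Pair
import Cfsg.Agent.Sym.Present

/-!
Involutions whose centraliser has the shape `2^(1+8).A₉`: definitions, coordinates for the spin module
(see `stubs/Cfsg/Agent/ThR/PLAN.md`).
-/

set_option autoImplicit false
set_option maxRecDepth 100000
set_option exponentiation.threshold 100000

namespace Cfsg.Agent.ThR

open Cfsg.Agent.Spor Cfsg.Agent.Spor.TT Cfsg.Agent.LX Cfsg.Agent.Sym Subgroup Module QuadraticMap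

abbrev V8 : Type := Fin 8 → ZMod 2

abbrev V9 : Type := Fin 9 → ZMod 2

abbrev P9 : Type := Equiv.Perm (Fin 9)

/-- The action of the seven generators on codes of vectors. -/
def yT (i : Fin 9) : ℕ := List.getD
  [nat_lit 0x0,
   nat_lit 0x0,
   nat_lit 0x697f425424320f19eff9c4d2a2b4899f180e332555437e689e88b5a3d3c5f8eefbedd0c6b6a09d8b7d6b564030261b0d8a9ca1b7c7d1ecfa0c1a273141576a7cfdebd6c0b0a69b8d7b6d504636201d0b8c9aa7b1c1d7eafc0a1c213747516c7a6f7944522234091fe9ffc2d4a4b28f991e0835235345786e988eb3a5d5c3fee88197aabcccdae7f107112c3a4a5c6177f0e6dbcdbdab968076605d4b3b2d10061305382e5e4875639583bea8d8cef3e56274495f2f390412e4f2cfd9a9bf829415033e28584e73659385b8aedec8f5e364724f59293f0214e2f4c9dfafb984928791acbacadce1f701172a3c4c5a6771f6e0ddcbbbad908670665b4d3d2b1600,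
   nat_lit 0x998bbaa8d5c7f6e41d0f3e2c51437260a9bb8a98e5f7c6d42d3f0e1c61734250899baab8c5d7e6f40d1f2e3c41536270b9ab9a88f5e7d6c43d2f1e0c71635240190b3a28554776649d8fbeacd1c3f2e0293b0a1865774654adbf8e9ce1f3c2d0091b2a38455766748d9faebcc1d3e2f0392b1a0875675644bdaf9e8cf1e3d2c0594b7a6815073624ddcffeec9183b2a0697b4a5825370614edffcedca1b38290495b6a7805172634cddfeefc8193a2b0796b5a4835271604fdefdeccb1a39280d9cbfae89587b6a45d4f7e6c11033220e9fbcad8a5b786946d7f4e5c21330210c9dbeaf88597a6b44d5f6e7c01132230f9ebdac8b5a796847d6f5e4c31231200,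
   nat_lit 0x666465676a68696b626061636e6c6d6f575554565b59585a535150525f5d5c5e74767775787a7b79707273717c7e7f7d45474644494b4a48414342404d4f4e4ce2e0e1e3eeecedefe6e4e5e7eae8e9ebd3d1d0d2dfdddcded7d5d4d6dbd9d8daf0f2f3f1fcfefffdf4f6f7f5f8fafbf9c1c3c2c0cdcfceccc5c7c6c4c9cbcac8aeacadafa2a0a1a3aaa8a9aba6a4a5a79f9d9c9e939190929b99989a97959496bcbebfbdb0b2b3b1b8babbb9b4b6b7b58d8f8e8c81838280898b8a88858786842a28292b262425272e2c2d2f222021231b19181a171514161f1d1c1e13111012383a3b39343637353c3e3f3d30323331090b0a08050706040d0f0e0c01030200,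
   nat_lit 0xc3c5c9cfcec8c4c2c1c7cbcdcccac6c0b3b5b9bfbeb8b4b2b1b7bbbdbcbab6b04345494f4e48444241474b4d4c4a46403335393f3e38343231373b3d3c3a36305355595f5e58545251575b5d5c5a56502325292f2e28242221272b2d2c2a2620d3d5d9dfded8d4d2d1d7dbdddcdad6d0a3a5a9afaea8a4a2a1a7abadacaaa6a06365696f6e68646261676b6d6c6a66601315191f1e18141211171b1d1c1a1610e3e5e9efeee8e4e2e1e7ebedeceae6e09395999f9e98949291979b9d9c9a9690f3f5f9fffef8f4f2f1f7fbfdfcfaf6f08385898f8e88848281878b8d8c8a86807375797f7e78747271777b7d7c7a76700305090f0e08040201070b0d0c0a0600,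
   nat_lit 0x3c383733393d32363a3e31353f3b34306c686763696d62666a6e61656f6b6460aca8a7a3a9ada2a6aaaea1a5afaba4a0fcf8f7f3f9fdf2f6fafef1f5fffbf4f02c282723292d22262a2e21252f2b24207c787773797d72767a7e71757f7b7470bcb8b7b3b9bdb2b6babeb1b5bfbbb4b0ece8e7e3e9ede2e6eaeee1e5efebe4e0dcd8d7d3d9ddd2d6daded1d5dfdbd4d08c888783898d82868a8e81858f8b84804c484743494d42464a4e41454f4b44401c181713191d12161a1e11151f1b1410ccc8c7c3c9cdc2c6cacec1c5cfcbc4c09c989793999d92969a9e91959f9b94905c585753595d52565a5e51555f5b54500c080703090d02060a0e01050f0b0400,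
   nat_lit 0xa5b18f9be1f5cbdf25310f1b61754b5ff4e0decab0a49a8e74605e4a30241a0e27330d196377495da7b38d99e3f7c9dd76625c483226180cf6e2dcc8b2a6988ca1b58b9fe5f1cfdb21350b1f65714f5bf0e4daceb4a09e8a70645a4e34201e0a2337091d67734d59a3b7899de7f3cdd97266584c36221c08f2e6d8ccb6a29c882d390713697d4357adb98793e9fdc3d77c685642382c1206fce8d6c2b8ac9286afbb8591ebffc1d52f3b05116b7f4155feead4c0baae90847e6a54403a2e1004293d03176d794753a9bd8397edf9c7d3786c52463c281602f8ecd2c6bca89682abbf8195effbc5d12b3f01156f7b4551faeed0c4beaa94807a6e50443e2a1400,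
   nat_lit 0x5a4a78681f0f3d2dd8c8faea9d8dbfaf4b5b69790e1e2c3cc9d9ebfb8c9caebe58487a6a1d0d3f2fdacaf8e89f8fbdad49596b7b0c1c2e3ecbdbe9f98e9eacbc4e5e6c7c0b1b2939ccdceefe8999abbb5f4f7d6d1a0a3828ddcdffef9888baaa4c5c6e7e09192b3bcedeecfc8b9ba9b95d4d7f6f18083a2adfcffded9a8ab8a8f2e2d0c0b7a795857060524235251707e3f3c1d1a6b684946171435324340616f0e0d2c2b5a597877262504037271505e1f1c3d3a4b486966373415126360414e6f6c4d4a3b381916474465621310313f7e7d5c5b2a290807565574730201202e4f4c6d6a1b183936676445423330111f5e5d7c7b0a092827767554532221000] i 0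

/-- The table of the spread. -/
def spT : ℕ := nat_lit 0x2008044004407003068060020760300608500570500230058007400440042003060360807060020630500508502007053070802001010101020308070101010100537500580000253700000082000000360062000068007600230000008700007442000000008443000027000000380000000000217131814654650051614100

/-- Words that move `17` (singular case) or `24` to a given code. -/
def wS (n : ℕ) : List (Fin 9) := List.getD
  [[], [8], [4, 8], [4, 4, 8], [6, 8], [6, 6, 8], [5, 8], [5, 5, 8], [8, 6, 2], [8, 4, 2], [5, 4, 8], [6, 4, 8],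
   [4, 6, 8], [5, 6, 8], [6, 5, 8], [4, 5, 8], [8, 8], [], [3, 8], [3, 3, 8], [7, 8], [7, 7, 8], [2, 8],
   [2, 2, 8], [], [2, 4, 8], [5, 4, 2], [2, 7], [4, 7, 2], [3, 2], [6, 2, 3], [7, 3], [8, 3], [8, 4], [3],
   [3, 4, 8], [4, 6, 2], [7, 2], [6, 2, 4], [7, 3, 6], [8, 7, 3], [8, 2, 3], [7, 4, 8], [2, 4, 8], [7, 5, 5],
   [4, 4], [2, 2, 5], [8, 8, 2], [3, 8, 8], [4, 8, 8], [4, 3, 8], [4], [8, 4, 2], [4], [5, 5, 2], [2, 4, 5],
   [2, 5, 3], [8, 2, 4], [6, 2], [7, 6], [2, 7, 8], [4, 7, 8], [4, 2, 8], [7, 2, 8], [8, 6], [8, 7], [5, 8, 2],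
   [6, 2, 5], [7, 6, 8], [7], [2, 3], [6, 5, 3], [8, 2, 4], [8, 6, 4], [8, 8, 3], [8, 2, 2], [3, 6, 8],
   [2, 6, 8], [6, 6], [2, 4, 4], [6, 8, 8], [7, 8, 8], [3, 5, 2], [4, 4, 3], [6], [6, 7, 8], [6], [4, 2, 2],
   [8, 3, 6], [6, 2, 7], [2, 3, 8], [6, 3, 8], [2, 5], [5, 3], [6, 2, 8], [3, 2, 8], [8, 5], [8, 2], [4, 2],
   [7, 6, 5], [4, 8, 3], [5, 3, 4], [2, 5, 8], [2], [8, 7, 2], [8, 3, 2], [5, 5], [3, 6, 6], [6, 2, 2],
   [8, 3, 3], [7, 5, 8], [3, 5, 8], [5, 8, 8], [2, 8, 8], [5], [8, 2, 3], [7, 4, 3], [6, 4, 5], [5], [5, 2, 8],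
   [3, 2, 5], [5, 3, 2], [5, 3, 8], [7, 3, 8], [3, 7, 8], [5, 7, 8], [3, 4], [4, 7], [5, 8, 3], [7, 3, 2],
   [3, 8, 2], [7, 4], [6, 8, 2], [7, 5, 3], [5, 8, 4], [3, 6, 2], [7, 5, 8, 3], [5, 4, 4], [6, 2], [8, 8],
   [3, 6, 8, 2], [2, 2, 4], [2, 5, 8, 4], [7, 7, 5], [6, 8, 3], [6, 7, 2], [7, 8, 2], [8], [4, 8, 2], [4, 4, 2],
   [7, 8, 4], [5, 2, 3], [7, 5, 2], [2, 6, 8, 3], [8, 7, 4], [4, 2], [3, 4, 5], [7, 4, 8, 2], [2, 4, 3],
   [3, 7, 8, 4], [5, 5, 8, 3], [8, 2, 7], [7, 3, 8, 2], [8, 7, 6], [4, 5], [2, 6, 8, 2], [6, 8, 2],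
   [5, 5, 8, 4], [7, 3], [3, 2, 2], [5, 3, 8, 2], [7, 7, 3], [3, 3], [5, 6, 8, 2], [4, 4, 7], [3, 5, 8, 4],
   [6, 6, 8, 3], [2, 3, 3], [2, 7, 8, 2], [5, 2, 2], [3], [6, 4, 8, 2], [7, 7, 4], [7, 7, 8, 4], [2, 4], [2, 3],
   [4, 6], [6, 7, 8, 2], [3, 4, 8, 2], [8, 7], [6, 7, 8, 4], [6, 8], [3, 5, 8, 3], [5, 2], [8, 2, 5],
   [2, 3, 8, 2], [4, 6, 8, 2], [5, 8, 3], [8, 3, 2], [4, 5, 8, 4], [4, 5, 8, 3], [7, 7], [3, 4, 4],
   [4, 3, 8, 2], [7, 6, 8, 2], [6, 6, 2], [7, 3, 3], [6, 4], [5, 6, 8, 3], [7], [7, 7, 2], [3, 7, 8, 2],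
   [2, 4, 8, 2], [8, 4, 4], [4, 4, 5], [5, 7, 8, 4], [8, 2], [7, 6, 8, 3], [5, 7, 8, 2], [6, 5], [5, 8],
   [5, 4, 8, 2], [2, 4], [3, 6], [6, 5, 8, 3], [7, 5, 4], [8, 3, 4], [3, 3, 8, 2], [8, 7, 3], [6, 6, 8, 2],
   [7, 5, 8, 4], [4, 3], [2, 5, 8, 3], [5, 5, 3], [3, 3, 2], [6, 3, 8, 2], [4, 4, 6], [3, 2], [6, 5, 8, 4],
   [2, 2], [3, 6, 8, 3], [3, 7, 4], [2, 2, 3], [7, 7, 8, 2], [7, 2, 2], [4, 4, 8, 2], [4, 7, 8, 4], [2], [4, 8],
   [4, 6, 8, 3], [4, 7, 8, 2], [5, 4], [7, 2], [7, 5], [8, 3], [2, 7, 8, 4]] n []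

/-- The vector with code `n`. -/
def dec (n : ℕ) : V8 := fun i => ((n >>> i.val) % 2 : ℕ)

/-- The code of a vector. -/
def enc (v : V8) : ℕ := (v 0).val + 2 * (v 1).val + 4 * (v 2).val + 8 * (v 3).val + 16 * (v 4).val +
  32 * (v 5).val + 64 * (v 6).val + 128 * (v 7).val

/-- The invariant quadratic form of the spin module. -/
noncomputable def qS : QuadraticForm (ZMod 2) V8 :=
  linMulLin (LinearMap.proj 0) (LinearMap.proj 7) + linMulLin (LinearMap.proj 1) (LinearMap.proj 6) +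
    linMulLin (LinearMap.proj 2) (LinearMap.proj 5) + linMulLin (LinearMap.proj 3) (LinearMap.proj 4)

/-- The form on codes. -/
def qc (n : ℕ) : ZMod 2 := dec n 0 * dec n 7 + dec n 1 * dec n 6 + dec n 2 * dec n 5 + dec n 3 * dec n 4

/-- The polar form on codes. -/
def bc (m n : ℕ) : ZMod 2 := qc (m ^^^ n) + qc m + qc n

/-- The action of the cycle `(0 1 i)` on codes. -/
def ya (i : Fin 9) (n : ℕ) : ℕ := (yT i >>> (8 * n)) % 256

/-- The action of a word on codes. -/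
def ap (w : List (Fin 9)) (n : ℕ) : ℕ := w.foldr ya n

/-- The permutation given by a word. -/
def pw (w : List (Fin 9)) : P9 := (w.map fun i => cyc3 0 1 i).prod

/-- All letters of the word are generators. -/
def okw (w : List (Fin 9)) : Prop := ∀ i ∈ w, 2 ≤ i

instance (w : List (Fin 9)) : Decidable (okw w) := by unfold okw; infer_instance

/-- The member of the spread that contains the singular vector with code `n`. -/
def spc (n : ℕ) : Fin 9 := Fin.ofNat 9 ((spT >>> (4 * n)) % 16)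

/-- The member of the spread that contains a non-zero singular vector. -/
def sp (v : V8) : Fin 9 := spc (enc v)

/-- `v` lies in the `j`-th member of the spread. -/
def InW (j : Fin 9) (v : V8) : Prop := v = 0 ∨ (qS v = 0 ∧ sp v = j)

/-- The same on codes. -/
def inW (j : Fin 9) (n : ℕ) : Prop := n = 0 ∨ (qc n = 0 ∧ spc n = j)

instance (j : Fin 9) (n : ℕ) : Decidable (inW j n) := by unfold inW; infer_instance

/-- The form of the even-weight module. -/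
def q9 (c : V9) : ZMod 2 := ∑ i, ∑ j, if i < j then c i * c j else 0

/-- Class representatives. -/
def a2 : P9 := pw [2, 3]

def a4 : P9 := pw [7, 6, 3, 2, 5, 4, 3, 2]

def f5 : P9 := pw [7, 4, 6, 8, 5, 7, 4]

def t2 : P9 := pw [5, 3, 4, 5, 3, 2]

def t3 : P9 := pw [6, 3, 8, 5, 7, 4, 6, 3, 2]

/-- `σ` is conjugate to `τ` by an even permutation. -/
def EC (σ τ : P9) : Prop := ∃ h : P9, Equiv.Perm.sign h = 1 ∧ cj h σ = τ

theorem enc_dec : ∀ n < 256, enc (dec n) = n := by decide +kernel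

theorem dec_enc (v : V8) : dec (enc v) = v := by revert v; decide +kernel

theorem enc_lt (v : V8) : enc v < 256 := by revert v; decide +kernel

theorem exists_dec (v : V8) : ∃ n < 256, dec n = v := ⟨_, enc_lt v, dec_enc v⟩

theorem forall_dec {P : V8 → Prop} (h : ∀ n < 256, P (dec n)) (v : V8) : P v :=
  dec_enc v ▸ h _ (enc_lt v)

theorem dec_inj {m n : ℕ} (hm : m < 256) (hn : n < 256) : dec m = dec n ↔ m = n :=
  ⟨fun e => by rw [← enc_dec m hm, e, enc_dec n hn], fun e => e ▸ rfl⟩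

theorem dec_zero : dec 0 = 0 := by decide

theorem dec_eq_zero {n : ℕ} (hn : n < 256) : dec n = 0 ↔ n = 0 := by
  rw [← dec_zero, dec_inj hn (by decide)]

theorem dec_xor (m n : ℕ) : dec (m ^^^ n) = dec m + dec n := funext fun i => by
  simp only [dec, Pi.add_apply, Nat.shiftRight_xor_distrib, Nat.xor_mod_two_eq, ZMod.natCast_mod]
  exact Nat.cast_add _ _

theorem xor_lt {m n : ℕ} (hm : m < 256) (hn : n < 256) : m ^^^ n < 256 :=
  Nat.xor_lt_two_pow (n := 8) hm hn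

theorem qS_apply (v : V8) : qS v = v 0 * v 7 + v 1 * v 6 + v 2 * v 5 + v 3 * v 4 := rfl

theorem qS_dec (n : ℕ) : qS (dec n) = qc n := rfl

theorem polar_dec (m n : ℕ) : polar qS (dec m) (dec n) = bc m n := by
  rw [polar, ← dec_xor, qS_dec, qS_dec, qS_dec, bc, CharTwo.sub_eq_add, CharTwo.sub_eq_add]

theorem sp_dec {n : ℕ} (hn : n < 256) : sp (dec n) = spc n := by rw [sp, enc_dec n hn]

theorem inW_dec {j : Fin 9} {n : ℕ} (hn : n < 256) : InW j (dec n) ↔ inW j n := by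
  rw [InW, inW, dec_eq_zero hn, qS_dec, sp_dec hn]

theorem ya_lt (i : Fin 9) (n : ℕ) : ya i n < 256 := Nat.mod_lt _ (by decide)

theorem ap_lt (w : List (Fin 9)) {n : ℕ} (hn : n < 256) : ap w n < 256 := by
  cases w with
  | nil => exact hn
  | cons i w => exact ya_lt _ _

theorem pw_cons (i : Fin 9) (w : List (Fin 9)) : pw (i :: w) = cyc3 0 1 i * pw w := rfl

theorem sign_pw {w : List (Fin 9)} (hw : okw w) : Equiv.Perm.sign (pw w) = 1 := by
  induction w with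
  | nil => exact map_one _
  | cons i w ih =>
    have : 2 ≤ i := hw i List.mem_cons_self
    rw [pw_cons, map_mul, ih fun j hj => hw j (List.mem_cons_of_mem _ hj),
      sign_cyc3 (by decide) (by rintro rfl; exact absurd this (by decide)), mul_one]

theorem exists_pw {σ : P9} (h : Equiv.Perm.sign σ = 1) : ∃ w, okw w ∧ pw w = σ := by
  have h1 : σ ∈ closure (Set.range fun i : {i : Fin 9 // i ≠ 0 ∧ i ≠ 1} => cyc3 0 1 i.1) := by
    rw [closure_cyc3 (by decide)]; exact h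
  have h2 : ∀ i : Fin 9, i ≠ 0 ∧ i ≠ 1 → 2 ≤ i ∧ (cyc3 0 1 i)⁻¹ = cyc3 0 1 i * cyc3 0 1 i := by decide
  induction h1 using closure_induction_left with
  | one => exact ⟨[], by decide, rfl⟩
  | mul_left x hx y _ ih =>
    obtain ⟨i, rfl⟩ := hx
    obtain ⟨w, hw, rfl⟩ := ih (by simpa [sign_cyc3 (by decide : (0 : Fin 9) ≠ 1) i.2.2.symm] using h)
    exact ⟨i.1 :: w, List.forall_mem_cons.2 ⟨(h2 i i.2).1, hw⟩, rfl⟩
  | inv_mul_cancel x hx y _ ih =>
    obtain ⟨i, rfl⟩ := hx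
    obtain ⟨w, hw, rfl⟩ := ih (by simpa [sign_cyc3 (by decide : (0 : Fin 9) ≠ 1) i.2.2.symm] using h)
    exact ⟨i.1 :: i.1 :: w, List.forall_mem_cons.2 ⟨(h2 i i.2).1, List.forall_mem_cons.2 ⟨(h2 i i.2).1, hw⟩⟩,
      by rw [(h2 i i.2).2, mul_assoc]; rfl⟩

variable {G : Type*} [Group G]

/-- The centraliser of `z` modulo `QQ z` is identified with `A₉` by `φ`. -/
structure Hy (z : G) (φ : G → P9) : Prop where
  big : Big z
  mul : ∀ g h, Commute z g → Commute z h → φ (g * h) = φ g * φ h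
  ker : ∀ g, Commute z g → (φ g = 1 ↔ g ∈ QQ z)
  even : ∀ g, Commute z g → Equiv.Perm.sign (φ g) = 1
  surj : ∀ σ, Equiv.Perm.sign σ = 1 → ∃ g, Commute z g ∧ φ g = σ

/-- `QQ z / ⟨z⟩` is the spin module, in coordinates. -/
structure Md (z : G) (φ : G → P9) (π : G → V8) (act : G → End (ZMod 2) V8) : Prop where
  hy : Hy z φ
  co : Co z qS π act
  gen : ∀ i : Fin 9, 2 ≤ i → ∀ g, Commute z g → φ g = cyc3 0 1 i → ∀ n < 256, act g (dec n) = dec (ya i n)

/-- `QQ z / ⟨z⟩` is the even-weight module. -/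
structure Nt {V : Type*} [AddCommGroup V] [Module (ZMod 2) V] (z : G) (φ : G → P9)
    (q : QuadraticForm (ZMod 2) V) (π : G → V) (act : G → End (ZMod 2) V) (ι : V →+ V9) : Prop where
  hy : Hy z φ
  co : Co z q π act
  inj : Function.Injective ι
  even : ∀ v, ∑ i, ι v i = 0
  surj : ∀ c : V9, ∑ i, c i = 0 → ∃ v, ι v = c
  form : ∀ v, q v = q9 (ι v)
  perm : ∀ g, Commute z g → ∀ v i, ι (act g v) (φ g i) = ι v i

/-- No involution of the centraliser lies over a double transposition. -/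
def NoT (z : G) (φ : G → P9) : Prop := ∀ g, Commute z g → φ g = a2 → g * g ≠ 1

/-- The spin case with `z` conjugate to another element of `QQ z`. -/
def Ty (z : G) : Prop := ¬ WC z ∧ ∃ φ π act, Md z φ π act

section
variable {V : Type*} [AddCommGroup V] [Module (ZMod 2) V] {z g k x : G} {φ : G → P9}
  {q : QuadraticForm (ZMod 2) V} {π : G → V} {act : G → End (ZMod 2) V} {ι : V →+ V9}

namespace Hy

/-- `φ` as a homomorphism. -/
def hom (h : Hy z φ) : centralizer ({z} : Set G) →* P9 :=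
  MonoidHom.mk' (fun g => φ g) fun a b =>
    h.mul _ _ (mem_centralizer_singleton.1 a.2) (mem_centralizer_singleton.1 b.2)

theorem hom_apply (h : Hy z φ) (g : centralizer ({z} : Set G)) : h.hom g = φ g := rfl

theorem one (h : Hy z φ) : φ 1 = 1 := map_one h.hom

theorem inv (h : Hy z φ) (hg : Commute z g) : φ g⁻¹ = (φ g)⁻¹ :=
  map_inv h.hom ⟨g, mem_centralizer_singleton.2 hg⟩

theorem pow (h : Hy z φ) (hg : Commute z g) (n : ℕ) : φ (g ^ n) = φ g ^ n :=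
  map_pow h.hom ⟨g, mem_centralizer_singleton.2 hg⟩ n

theorem conj (h : Hy z φ) (hg : Commute z g) (hk : Commute z k) : φ (cj g k) = cj (φ g) (φ k) := by
  rw [cj_def, h.mul _ _ (hg.mul_right hk) hg.inv_right, h.mul _ _ hg hk, h.inv hg, cj_def]

theorem of_mem (h : Hy z φ) (hx : x ∈ QQ z) : φ x = 1 := (h.ker x (h.big.comm hx)).2 hx

theorem eq_iff (h : Hy z φ) (hg : Commute z g) (hk : Commute z k) : φ g = φ k ↔ g * k⁻¹ ∈ QQ z := by
  rw [← h.ker _ (hg.mul_right hk.inv_right), h.mul _ _ hg hk.inv_right, h.inv hk, mul_inv_eq_one]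

theorem eq_iff' (h : Hy z φ) (hg : Commute z g) (hk : Commute z k) : φ g = φ k ↔ k⁻¹ * g ∈ QQ z := by
  rw [← h.ker _ (hk.inv_right.mul_right hg), h.mul _ _ hk.inv_right hg, h.inv hk, inv_mul_eq_one, eq_comm]

theorem act_congr (h : Hy z φ) (c : Co z q π act) (hg : Commute z g) (hk : Commute z k) (e : φ g = φ k) :
    act g = act k := LinearMap.ext fun v => by
  have h1 := (h.eq_iff hg hk).1 e
  rw [← inv_mul_cancel_right g k, c.act_mul' (h.big.comm h1) hk, c.act_of_mem h1]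

theorem range_hom (h : Hy z φ) : h.hom.range = alternatingGroup (Fin 9) := by
  ext σ
  refine ⟨?_, fun e => ?_⟩
  · rintro ⟨g, rfl⟩
    exact h.even _ (mem_centralizer_singleton.1 g.2)
  · obtain ⟨g, hg, rfl⟩ := h.surj σ e
    exact ⟨⟨g, mem_centralizer_singleton.2 hg⟩, rfl⟩

theorem card (h : Hy z φ) : Nat.card (centralizer ({z} : Set G)) = 512 * 181440 := by
  have le : QQ z ≤ centralizer ({z} : Set G) := fun x hx => mem_centralizer_singleton.2 (h.big.comm hx)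
  have k : h.hom.ker = (QQ z).subgroupOf _ := by
    ext g
    exact h.ker _ (mem_centralizer_singleton.1 g.2)
  rw [← h.hom.ker.card_mul_index, index_ker, h.range_hom, k, Nat.card_congr (subgroupOfEquivOfLe le).toEquiv,
    h.big.card, nat_card_alternatingGroup, Nat.card_fin]
  rfl

/-- Elements of odd order lift to elements of the same order. -/
theorem exists_lift (h : Hy z φ) {σ : P9} (hσ : Equiv.Perm.sign σ = 1) {n : ℕ} (hn : Odd n) (e : σ ^ n = 1) :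
    ∃ g, Commute z g ∧ φ g = σ ∧ g ^ n = 1 := by
  obtain ⟨g, hg, rfl⟩ := h.surj σ hσ
  obtain ⟨m, rfl⟩ := hn
  have h1 : g ^ (2 * m + 1) ∈ QQ z := (h.ker _ (hg.pow_right _)).1 (by rw [h.pow hg, e])
  refine ⟨g ^ (4 * (m + 1) ^ 2), hg.pow_right _, ?_, ?_⟩
  · rw [h.pow hg, show 4 * (m + 1) ^ 2 = (2 * m + 1) * (2 * m + 3) + 1 by ring, pow_succ, pow_mul, e, one_pow,
      one_mul]
  · rw [← pow_mul, show 4 * (m + 1) ^ 2 * (2 * m + 1) = (2 * m + 1) * 4 * (m + 1) ^ 2 by ring, pow_mul, pow_mul,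
      h.big.es.aes.pow_four h1, one_pow]

theorem exists_cj (h : Hy z φ) (hg : Commute z g) {τ : P9} (e : EC (φ g) τ) :
    ∃ k, Commute z k ∧ φ (cj k g) = τ := by
  obtain ⟨σ, h1, rfl⟩ := e
  obtain ⟨k, hk, rfl⟩ := h.surj σ h1
  exact ⟨k, hk, h.conj hk hg⟩

theorem cj (h : Hy z φ) (k : G) : Hy (cj k z) fun g => φ (cj k⁻¹ g) where
  big := h.big.cj k
  mul a b ha hb := by rw [cj_mul, h.mul _ _ (commute_cj_left.1 ha) (commute_cj_left.1 hb)]
  ker a ha := by rw [h.ker _ (commute_cj_left.1 ha), mem_QQ_cj]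
  even a ha := h.even _ (commute_cj_left.1 ha)
  surj σ e := by
    obtain ⟨g, hg, rfl⟩ := h.surj σ e
    exact ⟨TT.cj k g, commute_cj.2 hg, by rw [cj_inv_cj]⟩

end Hy

theorem co_cj (h : Co z q π act) (k : G) :
    Co (cj k z) q (fun x => π (cj k⁻¹ x)) fun g => act (cj k⁻¹ g) where
  big := h.big.cj k
  mul x hx y hy := by rw [cj_mul, h.mul _ (mem_QQ_cj.1 hx) _ (mem_QQ_cj.1 hy)]
  ker x hx := by
    rw [h.ker _ (mem_QQ_cj.1 hx), cj_eq_iff, cj_eq_iff, inv_inv, cj_one_right]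
  surj v := by
    obtain ⟨x, hx, rfl⟩ := h.surj v
    exact ⟨cj k x, cj_mem_QQ.2 hx, by rw [cj_inv_cj]⟩
  sq x hx := by rw [← h.sq _ (mem_QQ_cj.1 hx), ← cj_mul, cj_eq_iff, cj_one_right]
  comm x hx y hy := by rw [← h.comm _ (mem_QQ_cj.1 hx) _ (mem_QQ_cj.1 hy), commute_cj]
  conj g hg x hx := by rw [cj_dist, h.conj _ (commute_cj_left.1 hg) _ (mem_QQ_cj.1 hx)]

theorem Nt.cj (h : Nt z φ q π act ι) (k : G) :
    Nt (cj k z) (fun g => φ (cj k⁻¹ g)) q (fun x => π (cj k⁻¹ x)) (fun g => act (cj k⁻¹ g)) ι :=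
  ⟨h.hy.cj k, co_cj h.co k, h.inj, h.even, h.surj, h.form, fun _ hg => h.perm _ (commute_cj_left.1 hg)⟩

end

variable {z g k x : G} {φ : G → P9} {π : G → V8} {act : G → End (ZMod 2) V8}

theorem Md.cj (h : Md z φ π act) (k : G) :
    Md (cj k z) (fun g => φ (cj k⁻¹ g)) (fun x => π (cj k⁻¹ x)) fun g => act (cj k⁻¹ g) :=
  ⟨h.hy.cj k, co_cj h.co k, fun i hi _ hg => h.gen i hi _ (commute_cj_left.1 hg)⟩

theorem Md.big (h : Md z φ π act) : Big z := h.hy.big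

/-- The action of an element over the permutation given by a word. -/
theorem Md.word (h : Md z φ π act) {w : List (Fin 9)} (hw : okw w) (hg : Commute z g) (e : φ g = pw w)
    {n : ℕ} (hn : n < 256) : act g (dec n) = dec (ap w n) := by
  induction w generalizing g with
  | nil => exact h.co.act_of_mem ((h.hy.ker g hg).1 e) _
  | cons i w ih =>
    have hi : 2 ≤ i := hw i List.mem_cons_self
    have hw' : okw w := fun j hj => hw j (List.mem_cons_of_mem _ hj)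
    obtain ⟨k, hk, e'⟩ := h.hy.surj _ (sign_pw hw')
    have h1 : φ (g * k⁻¹) = cyc3 0 1 i := by
      rw [h.hy.mul _ _ hg hk.inv_right, h.hy.inv hk, e, e', pw_cons, mul_inv_cancel_right]
    rw [← inv_mul_cancel_right g k, h.co.act_mul' (hg.mul_right hk.inv_right) hk, ih hw' hk e',
      h.gen i hi _ (hg.mul_right hk.inv_right) h1 _ (ap_lt w hn)]
    rfl

theorem Md.exists_word (h : Md z φ π act) {w : List (Fin 9)} (hw : okw w) :
    ∃ g, Commute z g ∧ φ g = pw w ∧ ∀ n < 256, act g (dec n) = dec (ap w n) :=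
  let ⟨g, hg, e⟩ := h.hy.surj _ (sign_pw hw)
  ⟨g, hg, e, fun _ hn => h.word hw hg e hn⟩

theorem wS_ok : ∀ n < 256, n ≠ 0 → okw (wS n) ∧ ap (wS n) (if qc n = 0 then 17 else 24) = n := by
  decide +kernel

/-- The centraliser is transitive on the non-zero singular vectors. -/
theorem Md.trans (h : Md z φ π act) {v : V8} (h0 : v ≠ 0) (hq : qS v = 0) :
    ∃ g, Commute z g ∧ act g (dec 17) = v := by
  obtain ⟨n, hn, rfl⟩ := exists_dec v
  obtain ⟨h1, h2⟩ := wS_ok n hn (mt (dec_eq_zero hn).2 h0)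
  obtain ⟨g, hg, -, e⟩ := h.exists_word h1
  rw [if_pos (show qc n = 0 from hq)] at h2
  exact ⟨g, hg, by rw [e 17 (by decide), h2]⟩

theorem spc_ya : ∀ i : Fin 9, 2 ≤ i → ∀ n < 256, n ≠ 0 → qc n = 0 →
    ya i n ≠ 0 ∧ qc (ya i n) = 0 ∧ spc (ya i n) = cyc3 0 1 i (spc n) := by
  decide +kernel

/-- The spread is permuted like the nine points. -/
theorem Md.sp_act (h : Md z φ π act) (hg : Commute z g) {v : V8} (h0 : v ≠ 0) (hq : qS v = 0) :
    sp (act g v) = φ g (sp v) := by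
  obtain ⟨n, hn, rfl⟩ := exists_dec v
  obtain ⟨w, hw, e⟩ := exists_pw (h.hy.even g hg)
  have key : ap w n ≠ 0 ∧ qc (ap w n) = 0 ∧ spc (ap w n) = pw w (spc n) := by
    clear e
    induction w with
    | nil => exact ⟨mt (dec_eq_zero hn).2 h0, hq, rfl⟩
    | cons i w ih =>
      obtain ⟨a, b, c⟩ := ih fun j hj => hw j (List.mem_cons_of_mem _ hj)
      obtain ⟨a', b', c'⟩ := spc_ya i (hw i List.mem_cons_self) _ (ap_lt w hn) a b
      exact ⟨a', b', by rw [pw_cons, Equiv.Perm.mul_apply, ← c]; exact c'⟩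
  rw [h.word hw hg e.symm hn, sp_dec (ap_lt w hn), sp_dec hn, key.2.2, e]

theorem Md.inW_act (h : Md z φ π act) (hg : Commute z g) {j : Fin 9} {v : V8} :
    InW (φ g j) (act g v) ↔ InW j v := by
  by_cases h0 : v = 0
  · simp [InW, h0]
  · have h1 : act g v ≠ 0 := fun e => h0 (h.co.act_injective hg (e.trans (map_zero _).symm))
    simp only [InW, h0, h1, false_or, h.co.act_q hg]
    exact and_congr_right fun hq => by rw [h.sp_act hg h0 hq, (φ g).injective.eq_iff]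

theorem Ty.cj (h : Ty z) (k : G) : Ty (cj k z) :=
  let ⟨h1, _, _, _, m⟩ := h
  ⟨fun w => h1 (w.of_isConj (LX.isConj_cj k z).symm), _, _, _, m.cj k⟩

theorem Ty.of_isConj {a : G} (h : Ty z) (ha : IsConj z a) : Ty a :=
  let ⟨g, e⟩ := exists_cj ha; e ▸ h.cj g

theorem Ty.big (h : Ty z) : Big z := let ⟨_, _, _, _, m⟩ := h; m.big

end Cfsg.Agent.ThR
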